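import Cfsg.Agent.Lib.Helper4.J2C.C1

set_option autoImplicit false

/-! # The elements of the centralizer of the first generator of the presented group `J2` -/

namespace Cfsg.Agent.Lib.Helper4.J2C

open Cfsg.Agent.Lib.Helper4.J2S
open Cfsg.Agent.Lib.Helper6.TC Cfsg.Agent.Lib.Helper6.TCD
open Cfsg.Agent.Lib.Helper6.TCP.J2
open Classical

theorem slp2_ok : slpChk ALLPK SLP2 = true := by decide +kernel

theorem pc_mem : PCL.all (fun pc => ALLPK.contains pc || (SLP2.map (fun e => e.1)).contains pc) = true := by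
  decide +kernel

theorem repr_pc {pc : ℕ} (h : pc ∈ PCL) : Repr pc := by
  have := List.all_eq_true.mp pc_mem pc h
  simp only [Bool.or_eq_true, List.contains_iff_mem] at this
  rcases this with h1 | h2
  · exact repr_all pc h1
  · obtain ⟨e, he, rfl⟩ := List.mem_map.mp h2
    exact slp_sound SLP2 ALLPK slp2_ok repr_all e he

/-- the first generator -/
noncomputable def a0 : G := PresentedGroup.mk Rels (FreeGroup.of (0 : Fin 5))

theorem rep_a0 : Rep HEX0 a0 := by
  intro p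
  have h := phi_word [0] (by intro d hd; rw [List.mem_singleton] at hd; omega) p
  have e : a0 = PresentedGroup.mk Rels (wordElt gc [0]) := by
    unfold a0
    rw [wordElt_cons, wordElt_nil, mul_one]
    rfl
  unfold act
  rw [e, h, wapp_cons, wapp_nil]
  exact P0_eq _

/-- a function on the natural numbers gives the action of an element of the group -/
def Ev (f : ℕ → ℕ) (g : G) : Prop := ∀ q (hq : q < 100), (act g ⟨q, hq⟩).val = f q

theorem Ev.lt {f : ℕ → ℕ} {g : G} (h : Ev f g) {q : ℕ} (hq : q < 100) : f q < 100 := by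
  rw [← h q hq]
  exact Fin.is_lt _

theorem Ev.apply {f : ℕ → ℕ} {g : G} (h : Ev f g) {q : ℕ} (hq : q < 100) :
    act g ⟨q, hq⟩ = ⟨f q, h.lt hq⟩ := Fin.ext (h q hq)

theorem Ev.mul {f f' : ℕ → ℕ} {g h : G} (hg : Ev f g) (hh : Ev f' h) :
    Ev (fun q => f' (f q)) (g * h) := by
  intro q hq
  rw [act_mul, hg.apply hq, hh.apply (hg.lt hq)]

theorem Ev.one : Ev (fun q => q) 1 := by
  intro q hq
  rw [act_one]

theorem Ev.of_rep {pk : ℕ} {g : G} (h : Rep pk g) : Ev (ap pk) g := fun q hq => h ⟨q, hq⟩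

theorem Ev.elt {pk : ℕ} (h : Repr pk) : Ev (ap pk) (elt pk) := Ev.of_rep (rep_elt h)

theorem ev_a0 : Ev (ap HEX0) a0 := Ev.of_rep rep_a0

/-- two elements with the same action on the base are equal -/
theorem eq_of_base {g h : G} (e0 : act g 0 = act h 0) (e3 : act g 3 = act h 3)
    (e1 : act g 1 = act h 1) (e2 : act g 2 = act h 2) : g = h := by
  have key : ∀ b, act g b = act h b → act (g * h⁻¹) b = b := by
    intro b e
    rw [act_mul, e, ← act_mul, mul_inv_cancel, act_one]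
  exact mul_inv_eq_one.mp (base_one (key 0 e0) (key 3 e3) (key 1 e1) (key 2 e2))

theorem Ev.ext {f f' : ℕ → ℕ} {g h : G} (hg : Ev f g) (hh : Ev f' h) (e0 : f 0 = f' 0)
    (e3 : f 3 = f' 3) (e1 : f 1 = f' 1) (e2 : f 2 = f' 2) : g = h := by
  refine eq_of_base ?_ ?_ ?_ ?_
  · exact Fin.ext ((hg 0 (by norm_num)).trans (e0.trans (hh 0 (by norm_num)).symm))
  · exact Fin.ext ((hg 3 (by norm_num)).trans (e3.trans (hh 3 (by norm_num)).symm))
  · exact Fin.ext ((hg 1 (by norm_num)).trans (e1.trans (hh 1 (by norm_num)).symm))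
  · exact Fin.ext ((hg 2 (by norm_num)).trans (e2.trans (hh 2 (by norm_num)).symm))

theorem Ev.val {f : ℕ → ℕ} {g : G} (hg : Ev f g) (p : Fin 100) : (act g p).val = f p.val :=
  hg p.val p.isLt

/-- the action of a triple of packed permutations -/
def g3 (t : ℕ × ℕ × ℕ) (q : ℕ) : ℕ := ap t.2.2 (ap t.2.1 (ap t.1 q))

theorem ev_tau {t : ℕ × ℕ × ℕ} (h1 : Repr t.1) (h2 : Repr t.2.1) (h3 : Repr t.2.2) :
    Ev (g3 t) (tau t) := fun _ hq => act_tau h1 h2 h3 hq

/-- whether the product of two packed permutations commutes with the first generator -/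
def commB (pk pu : ℕ) : Bool :=
  [0, 3, 1, 2].all fun b => ap pu (ap pk (ap HEX0 b)) == ap HEX0 (ap pu (ap pk b))

/-- the elements of the centralizer fixing the first point -/
def CPL : List (ℕ × ℕ) := (KL ×ˢ UL).filter fun e => commB e.1 e.2

/-- the elements of the centralizer -/
def CL : List (ℕ × ℕ × ℕ) := (CPL ×ˢ PCL).map fun e => (e.1.1, e.1.2, e.2)

theorem mem_CL {t : ℕ × ℕ × ℕ} : t ∈ CL ↔
    t.1 ∈ KL ∧ t.2.1 ∈ UL ∧ commB t.1 t.2.1 = true ∧ t.2.2 ∈ PCL := by
  unfold CL CPL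
  rw [List.mem_map]
  constructor
  · rintro ⟨⟨⟨pk, pu⟩, pc⟩, h, rfl⟩
    rw [List.mem_product, List.mem_filter, List.mem_product] at h
    exact ⟨h.1.1.1, h.1.1.2, h.1.2, h.2⟩
  · rintro ⟨h1, h2, h3, h4⟩
    refine ⟨((t.1, t.2.1), t.2.2), ?_, rfl⟩
    rw [List.mem_product, List.mem_filter, List.mem_product]
    exact ⟨⟨⟨h1, h2⟩, h3⟩, h4⟩

theorem ev_CL {t : ℕ × ℕ × ℕ} (h : t ∈ CL) : Ev (g3 t) (tau t) := by
  rw [mem_CL] at h
  exact ev_tau (repr_K h.1) (repr_U h.2.1) (repr_pc h.2.2.2)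

theorem fx_spec : ∀ q < 100, ap HEX0 q = q → q ∈ FXL := by decide +kernel

theorem pc_img : PCL.map (fun pc => ap pc 0) = FXL := by decide +kernel

theorem pc_comm : ∀ pc ∈ PCL, ∀ b ∈ [0, 3, 1, 2], ap pc (ap HEX0 b) = ap HEX0 (ap pc b) := by
  decide +kernel

theorem comm_pc {pc : ℕ} (h : pc ∈ PCL) : a0 * elt pc = elt pc * a0 := by
  have h1 := ev_a0.mul (Ev.elt (repr_pc h))
  have h2 := (Ev.elt (repr_pc h)).mul ev_a0
  have hc := pc_comm pc h
  exact h1.ext h2 (hc 0 (by simp)) (hc 3 (by simp)) (hc 1 (by simp)) (hc 2 (by simp))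

theorem comm_of_commB {pk pu : ℕ} (hk : pk ∈ KL) (hu : pu ∈ UL) (h : commB pk pu = true) :
    a0 * (elt pk * elt pu) = elt pk * elt pu * a0 := by
  have h1 := ev_a0.mul ((Ev.elt (repr_K hk)).mul (Ev.elt (repr_U hu)))
  have h2 := ((Ev.elt (repr_K hk)).mul (Ev.elt (repr_U hu))).mul ev_a0
  unfold commB at h
  simp only [List.all_cons, List.all_nil, Bool.and_true, Bool.and_eq_true, beq_iff_eq] at h
  exact h1.ext h2 h.1 h.2.1 h.2.2.1 h.2.2.2

theorem commB_of_comm {pk pu : ℕ} (hk : pk ∈ KL) (hu : pu ∈ UL)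
    (h : a0 * (elt pk * elt pu) = elt pk * elt pu * a0) : commB pk pu = true := by
  have h1 := ev_a0.mul ((Ev.elt (repr_K hk)).mul (Ev.elt (repr_U hu)))
  have h2 := ((Ev.elt (repr_K hk)).mul (Ev.elt (repr_U hu))).mul ev_a0
  unfold commB
  simp only [List.all_cons, List.all_nil, Bool.and_true, Bool.and_eq_true, beq_iff_eq]
  have key : ∀ b (hb : b < 100), ap pu (ap pk (ap HEX0 b)) = ap HEX0 (ap pu (ap pk b)) := by
    intro b hb
    have e1 := h1 b hb
    have e2 := h2 b hb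
    rw [h] at e1
    exact e1.symm.trans e2
  exact ⟨key 0 (by norm_num), key 3 (by norm_num), key 1 (by norm_num), key 2 (by norm_num)⟩

theorem tau_mem_cent {t : ℕ × ℕ × ℕ} (h : t ∈ CL) : tau t ∈ Subgroup.centralizer {a0} := by
  rw [mem_CL] at h
  rw [Subgroup.mem_centralizer_singleton_iff]
  unfold tau
  rw [mul_assoc, ← comm_pc h.2.2.2, ← mul_assoc, ← comm_of_commB h.1 h.2.1 h.2.2.1, mul_assoc]

theorem act_a0_zero : act a0 0 = 0 := by
  have := ev_a0 0 (by norm_num)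
  exact Fin.ext (this.trans (by decide +kernel))

/-- every element of the centralizer is in the list -/
theorem exists_of_mem_cent {g : G} (h : g ∈ Subgroup.centralizer {a0}) : ∃ t ∈ CL, g = tau t := by
  rw [Subgroup.mem_centralizer_singleton_iff] at h
  have hfix : act a0 (act g 0) = act g 0 := by
    rw [← act_mul, h, act_mul, act_a0_zero]
  have hval : ap HEX0 (act g 0).val = (act g 0).val := by
    rw [← ev_a0.val, hfix]
  have hmem := fx_spec _ (act g 0).isLt hval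
  rw [← pc_img, List.mem_map] at hmem
  obtain ⟨pc, hpc, epc⟩ := hmem
  have hpc0 : act (elt pc) 0 = act g 0 := Fin.ext (((Ev.elt (repr_pc hpc)) 0 (by norm_num)).trans epc)
  have hs : act (g * (elt pc)⁻¹) 0 = 0 := by
    rw [act_mul, ← hpc0, ← act_mul, mul_inv_cancel, act_one]
  obtain ⟨pk, hpk, pu, hpu, e⟩ := stab0 hs
  have hc : a0 * (elt pk * elt pu) = elt pk * elt pu * a0 := by
    have h3 : (elt pc)⁻¹ * a0 = a0 * (elt pc)⁻¹ := by
      rw [inv_mul_eq_iff_eq_mul, ← mul_assoc, ← comm_pc hpc, mul_assoc, mul_inv_cancel, mul_one]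
    rw [← e, ← mul_assoc, ← h, mul_assoc, mul_assoc, h3]
  refine ⟨(pk, pu, pc), ?_, ?_⟩
  · rw [mem_CL]
    exact ⟨hpk, hpu, commB_of_comm hpk hpu hc, hpc⟩
  · unfold tau
    rw [← e, inv_mul_cancel_right]

end Cfsg.Agent.Lib.Helper4.J2C
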