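import Cfsg.Agent.Lib.Helper4.J2C.C3a

set_option autoImplicit false

/-! # The order of the centralizer, and its action on five blocks -/

namespace Cfsg.Agent.Lib.Helper4.J2C

open Cfsg.Agent.Lib.Helper4.J2S
open Cfsg.Agent.Lib.Helper6.TCP.J2
open Classical

/-- the centralizer of the first generator -/
noncomputable abbrev Cn : Subgroup G := Subgroup.centralizer {a0}

theorem KL_nodup : KL.Nodup := List.Nodup.of_map _ K_nodup

theorem UL_nodup : UL.Nodup := List.Nodup.of_map _ U_nodup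

theorem PCL_nodup : PCL.Nodup := by
  have := fxl_nodup
  rw [← pc_img] at this
  exact List.Nodup.of_map _ this

theorem CL_nodup : CL.Nodup := by
  unfold CL
  refine List.Nodup.map ?_ ?_
  · rintro ⟨⟨a, b⟩, c⟩ ⟨⟨a', b'⟩, c'⟩ e
    simp only [Prod.mk.injEq] at e
    obtain ⟨rfl, rfl, rfl⟩ := e
    rfl
  · exact List.Nodup.product ((KL_nodup.product UL_nodup).filter _) PCL_nodup

theorem length_CL : CL.length = 1920 := by
  unfold CL
  rw [List.length_map, List.length_product, length_CPL, length_PCL]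

theorem act_tau_zero' {t : ℕ × ℕ × ℕ} (h : t ∈ CL) : (act (tau t) 0).val = ap t.2.2 0 := by
  have h' := mem_CL.mp h
  unfold tau
  rw [act_mul, act_mul, K_fix0 h'.1, U_fix0 h'.2.1]
  exact (Ev.elt (repr_pc h'.2.2.2)) 0 (by norm_num)

theorem tau_injOn {t t' : ℕ × ℕ × ℕ} (h : t ∈ CL) (h' : t' ∈ CL) (e : tau t = tau t') : t = t' := by
  obtain ⟨pk, pu, pc⟩ := t
  obtain ⟨pk', pu', pc'⟩ := t'
  have m := mem_CL.mp h
  have m' := mem_CL.mp h'
  simp only at m m'
  have e1 : pc = pc' := by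
    have hn : (PCL.map (fun pc => ap pc 0)).Nodup := by rw [pc_img]; exact fxl_nodup
    refine List.inj_on_of_nodup_map hn m.2.2.2 m'.2.2.2 ?_
    show ap pc 0 = ap pc' 0
    rw [← act_tau_zero' h, ← act_tau_zero' h', e]
  subst e1
  unfold tau at e
  simp only at e
  have e2 : elt pk * elt pu = elt pk' * elt pu' := mul_right_cancel e
  have e3 : pu = pu' := by
    refine U_inj m.2.1 m'.2.1 ?_
    have h1 : act (elt pk * elt pu) 3 = act (elt pu) 3 := by rw [act_mul, K_fix3 m.1]
    have h2 : act (elt pk' * elt pu') 3 = act (elt pu') 3 := by rw [act_mul, K_fix3 m'.1]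
    rw [← h1, ← h2, e2]
  subst e3
  have e4 : elt pk = elt pk' := mul_right_cancel e2
  have e5 : pk = pk' := by
    refine List.inj_on_of_nodup_map K_nodup m.1 m'.1 ?_
    show (ap pk 1, ap pk 2) = (ap pk' 1, ap pk' 2)
    rw [← (Ev.elt (repr_K m.1)) 1 (by norm_num), ← (Ev.elt (repr_K m.1)) 2 (by norm_num),
      ← (Ev.elt (repr_K m'.1)) 1 (by norm_num), ← (Ev.elt (repr_K m'.1)) 2 (by norm_num), e4]
  subst e5
  rfl

theorem nodup_map_tau {L : List (ℕ × ℕ × ℕ)} (hL : ∀ t ∈ L, t ∈ CL) (hn : L.Nodup) :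
    (L.map tau).Nodup :=
  List.Nodup.map_on (fun t ht t' ht' e => tau_injOn (hL t ht) (hL t' ht') e) hn

/-- the cardinality of a subgroup enumerated by a list of triples -/
theorem card_of_list (H : Subgroup G) (L : List (ℕ × ℕ × ℕ)) (hL : ∀ t ∈ L, t ∈ CL) (hn : L.Nodup)
    (h1 : ∀ t ∈ L, tau t ∈ H) (h2 : ∀ g ∈ H, ∃ t ∈ L, g = tau t) : Nat.card H = L.length := by
  have hset : (H : Set G) = ↑(L.map tau).toFinset := by
    ext g
    rw [Finset.mem_coe, List.mem_toFinset, List.mem_map, SetLike.mem_coe]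
    constructor
    · intro hg
      obtain ⟨t, ht, e⟩ := h2 g hg
      exact ⟨t, ht, e.symm⟩
    · rintro ⟨t, ht, rfl⟩
      exact h1 t ht
  have : Nat.card H = Nat.card (H : Set G) := rfl
  rw [this, hset, Nat.card_coe_set_eq, Set.ncard_coe_finset,
    List.toFinset_card_of_nodup (nodup_map_tau hL hn), List.length_map]

theorem card_Cn : Nat.card Cn = 1920 := by
  rw [card_of_list Cn CL (fun _ h => h) CL_nodup (fun _ h => tau_mem_cent h)
    (fun _ h => exists_of_mem_cent h), length_CL]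

/-! ## The five blocks -/

/-- the point with a given label -/
def pt (i : Fin 5) : Fin 100 := ⟨rp i.val, rp_lt i⟩

theorem lab_act {g : G} (hg : g ∈ Cn) (p : Fin 100) (hp : lab p.val < 5) :
    lab (act g p).val < 5 ∧ lab (act g p).val = lab (act g (pt ⟨lab p.val, hp⟩)).val := by
  obtain ⟨t, ht, rfl⟩ := exists_of_mem_cent hg
  have h := List.all_eq_true.mp (List.all_eq_true.mp lab_ok t ht) p.val (List.mem_range.mpr p.isLt)
  rw [decide_eq_true_eq] at h
  have h' := h hp
  rw [(ev_CL ht).val, (ev_CL ht).val]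
  exact h'

theorem lab_pt_lt (i : Fin 5) : lab (pt i).val < 5 := by
  show lab (rp i.val) < 5
  rw [lab_rp]
  exact i.isLt

theorem pt_lab_pt (i : Fin 5) : (⟨lab (pt i).val, lab_pt_lt i⟩ : Fin 5) = i := Fin.ext (lab_rp i)

/-- the action of the centralizer on the five blocks -/
@[reducible] noncomputable def actFive : MulAction ↥Cn (Fin 5) where
  smul c i := ⟨lab (act (c : G)⁻¹ (pt i)).val,
    (lab_act (Subgroup.inv_mem _ c.2) (pt i) (lab_pt_lt i)).1⟩
  one_smul i := by
    refine Fin.ext ?_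
    show lab (act ((1 : ↥Cn) : G)⁻¹ (pt i)).val = i.val
    rw [Subgroup.coe_one, inv_one, act_one]
    exact lab_rp i
  mul_smul c d i := by
    refine Fin.ext ?_
    show lab (act ((c * d : ↥Cn) : G)⁻¹ (pt i)).val =
      lab (act (c : G)⁻¹ (pt ⟨lab (act (d : G)⁻¹ (pt i)).val, _⟩)).val
    rw [Subgroup.coe_mul, mul_inv_rev, act_mul]
    exact (lab_act (Subgroup.inv_mem _ c.2) _ _).2

/-- the homomorphism to the symmetric group of degree five -/
noncomputable def theta : ↥Cn →* Equiv.Perm (Fin 5) := @MulAction.toPermHom ↥Cn (Fin 5) _ actFive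

theorem theta_apply (c : ↥Cn) (i : Fin 5) :
    (theta c i).val = lab (act (c : G)⁻¹ (pt i)).val := rfl

theorem mem_ker_iff (c : ↥Cn) : c ∈ theta.ker ↔ ∀ i : Fin 5, lab (act (c : G) (pt i)).val = i.val := by
  have h1 : c ∈ theta.ker ↔ c⁻¹ ∈ theta.ker := (Subgroup.inv_mem_iff _).symm
  rw [h1, MonoidHom.mem_ker]
  constructor
  · intro h i
    have := theta_apply c⁻¹ i
    rw [h, Subgroup.coe_inv, inv_inv] at this
    exact this.symm
  · intro h
    ext i
    rw [theta_apply, Subgroup.coe_inv, inv_inv]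
    exact h i

theorem isKer_iff {t : ℕ × ℕ × ℕ} (ht : t ∈ CL) :
    isKer t = true ↔ ∀ i : Fin 5, lab (act (tau t) (pt i)).val = i.val := by
  unfold isKer
  simp only [List.all_cons, List.all_nil, Bool.and_true, Bool.and_eq_true, beq_iff_eq]
  have key : ∀ i : Fin 5, lab (act (tau t) (pt i)).val = lab (g3 t (rp i.val)) := by
    intro i
    rw [(ev_CL ht).val]
    rfl
  constructor
  · rintro ⟨h0, h1, h2, h3, h4⟩ i
    rw [key]
    fin_cases i
    · exact h0
    · exact h1
    · exact h2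
    · exact h3
    · exact h4
  · intro h
    exact ⟨(key 0).symm.trans (h 0), (key 1).symm.trans (h 1), (key 2).symm.trans (h 2),
      (key 3).symm.trans (h 3), (key 4).symm.trans (h 4)⟩

theorem mem_QL {t : ℕ × ℕ × ℕ} : t ∈ QL ↔ t ∈ CL ∧ isKer t = true := List.mem_filter

theorem QL_nodup : QL.Nodup := CL_nodup.filter _

/-- the kernel, as a subgroup of the whole group -/
noncomputable def Qn : Subgroup G := theta.ker.map Cn.subtype

theorem mem_Qn {g : G} : g ∈ Qn ↔ ∃ h : g ∈ Cn, (⟨g, h⟩ : ↥Cn) ∈ theta.ker := by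
  unfold Qn
  rw [Subgroup.mem_map]
  constructor
  · rintro ⟨c, hc, rfl⟩
    exact ⟨c.2, hc⟩
  · rintro ⟨h, hc⟩
    exact ⟨⟨g, h⟩, hc, rfl⟩

theorem tau_mem_Qn {t : ℕ × ℕ × ℕ} (h : t ∈ QL) : tau t ∈ Qn := by
  rw [mem_QL] at h
  rw [mem_Qn]
  refine ⟨tau_mem_cent h.1, ?_⟩
  rw [mem_ker_iff]
  exact (isKer_iff h.1).mp h.2

theorem exists_of_mem_Qn {g : G} (h : g ∈ Qn) : ∃ t ∈ QL, g = tau t := by
  rw [mem_Qn] at h
  obtain ⟨hc, hk⟩ := h
  obtain ⟨t, ht, rfl⟩ := exists_of_mem_cent hc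
  refine ⟨t, ?_, rfl⟩
  rw [mem_QL]
  refine ⟨ht, ?_⟩
  rw [isKer_iff ht]
  exact (mem_ker_iff _).mp hk

theorem card_Qn : Nat.card Qn = 32 := by
  rw [card_of_list Qn QL (fun _ h => (mem_QL.mp h).1) QL_nodup (fun _ h => tau_mem_Qn h)
    (fun _ h => exists_of_mem_Qn h), length_QL]

theorem card_ker : Nat.card theta.ker = 32 := by
  rw [← card_Qn]
  unfold Qn
  rw [Subgroup.card_map_of_injective (Subgroup.subtype_injective _)]

theorem card_range : Nat.card theta.range = 60 := by
  have h1 := Subgroup.card_mul_index theta.ker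
  rw [Subgroup.index_ker, card_ker, card_Cn] at h1
  omega

theorem range_eq : theta.range = alternatingGroup (Fin 5) := by
  apply Equiv.Perm.eq_alternatingGroup_of_index_eq_two
  have h1 := Subgroup.card_mul_index theta.range
  rw [card_range, Nat.card_eq_fintype_card, Fintype.card_perm, Fintype.card_fin] at h1
  have : Nat.factorial 5 = 120 := by decide
  omega

/-- the quotient of the centralizer by the kernel is the alternating group -/
noncomputable def quotEquiv : ↥Cn ⧸ theta.ker ≃* alternatingGroup (Fin 5) :=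
  (QuotientGroup.quotientKerEquivRange theta).trans (MulEquiv.subgroupCongr range_eq)

end Cfsg.Agent.Lib.Helper4.J2C
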