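import Cfsg.Agent.Lib.Helper4.J2C.C2

set_option autoImplicit false

/-! # Checks of the data of the centralizer -/

namespace Cfsg.Agent.Lib.Helper4.J2C

open Cfsg.Agent.Lib.Helper4.J2S

theorem fxl_nodup : FXL.Nodup := by decide +kernel

theorem length_CPL : CPL.length = 96 := by decide +kernel

theorem length_PCL : PCL.length = 20 := by decide +kernel

/-- the label of a point -/
def lab (q : ℕ) : ℕ := LABL.getD q 5

/-- a point with a given label -/
def rp (i : ℕ) : ℕ := REPL.getD i 0

theorem rp_lt : ∀ i : Fin 5, rp i.val < 100 := by decide +kernel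

theorem lab_rp : ∀ i : Fin 5, lab (rp i.val) = i.val := by decide +kernel

theorem lab_ok : CL.all (fun t => (List.range 100).all fun q =>
    decide (lab q < 5 → lab (g3 t q) < 5 ∧ lab (g3 t q) = lab (g3 t (rp (lab q))))) = true := by
  decide +kernel

/-- whether a triple acts trivially on the blocks -/
def isKer (t : ℕ × ℕ × ℕ) : Bool := [0, 1, 2, 3, 4].all fun i => lab (g3 t (rp i)) == i

/-- the elements of the kernel -/
def QL : List (ℕ × ℕ × ℕ) := CL.filter isKer

theorem length_QL : QL.length = 32 := by decide +kernel

end Cfsg.Agent.Lib.Helper4.J2C
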