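import Cfsg.Agent.Lib.Helper4.J2C.C3a

set_option autoImplicit false

/-! # Checks of the kernel -/

namespace Cfsg.Agent.Lib.Helper4.J2C

open Cfsg.Agent.Lib.Helper4.J2S

/-- the test of a function on the four points of the base -/
def onBase (f : ℕ → Bool) : Bool := f 0 && (f 3 && (f 1 && f 2))

theorem chk_comm : QL.all (fun t => QL.all fun t' =>
    onBase (fun b => g3 t' (g3 t b) == g3 t (g3 t' b)) ||
    onBase (fun b => g3 t' (g3 t b) == g3 t (g3 t' (ap HEX0 b)))) = true := by
  decide +kernel

theorem chk_sq : QL.all (fun t =>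
    onBase (fun b => g3 t (g3 t b) == b) || onBase (fun b => g3 t (g3 t b) == ap HEX0 b)) = true := by
  decide +kernel

theorem chk_center : QL.all (fun t =>
    !(QL.all fun t' => onBase (fun b => g3 t' (g3 t b) == g3 t (g3 t' b))) ||
    (onBase (fun b => g3 t b == b) || onBase (fun b => g3 t b == ap HEX0 b))) = true := by
  decide +kernel

theorem chk_a0 : ∀ i : Fin 5, lab (ap HEX0 (rp i.val)) = i.val := by decide +kernel

theorem chk_ne : ap HEX0 1 ≠ 1 := by decide +kernel

end Cfsg.Agent.Lib.Helper4.J2C
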