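import Cfsg.Agent.Lib.Helper4.J2C.C3
import Cfsg.Agent.Lib.Helper4.J2C.C4a
import Cfsg.Agent.Lib.Helper9.LargeExtra5

set_option autoImplicit false

/-! # The kernel is extraspecial of order 32 -/

namespace Cfsg.Agent.Lib.Helper4.J2C

open Cfsg.Agent.Lib.Helper4.J2S
open Cfsg.Agent.Lib.Helper6.TCP.J2
open Classical
open scoped commutatorElement

theorem onBase_eq {f f' : ℕ → ℕ} (h : onBase (fun b => f b == f' b) = true) :
    f 0 = f' 0 ∧ f 3 = f' 3 ∧ f 1 = f' 1 ∧ f 2 = f' 2 := by
  unfold onBase at h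
  simp only [Bool.and_eq_true, beq_iff_eq] at h
  exact h

theorem onBase_of_eq {f f' : ℕ → ℕ} {g h : G} (hg : Ev f g) (hh : Ev f' h) (e : g = h) :
    onBase (fun b => f b == f' b) = true := by
  unfold onBase
  simp only [Bool.and_eq_true, beq_iff_eq]
  subst e
  exact ⟨(hg 0 (by norm_num)).symm.trans (hh 0 (by norm_num)),
    (hg 3 (by norm_num)).symm.trans (hh 3 (by norm_num)),
    (hg 1 (by norm_num)).symm.trans (hh 1 (by norm_num)),
    (hg 2 (by norm_num)).symm.trans (hh 2 (by norm_num))⟩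

theorem Ev.ext' {f f' : ℕ → ℕ} {g h : G} (hg : Ev f g) (hh : Ev f' h)
    (e : onBase (fun b => f b == f' b) = true) : g = h := by
  obtain ⟨e0, e3, e1, e2⟩ := onBase_eq e
  exact hg.ext hh e0 e3 e1 e2

theorem ev_QL {t : ℕ × ℕ × ℕ} (h : t ∈ QL) : Ev (g3 t) (tau t) := ev_CL (mem_QL.mp h).1

theorem a0_mem_Cn : a0 ∈ Cn := Subgroup.mem_centralizer_singleton_iff.mpr rfl

theorem a0_mem_Qn : a0 ∈ Qn := by
  rw [mem_Qn]
  refine ⟨a0_mem_Cn, ?_⟩
  rw [mem_ker_iff]
  intro i
  show lab (act a0 (pt i)).val = i.val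
  rw [ev_a0.val]
  exact chk_a0 i

theorem a0_ne_one : a0 ≠ 1 := by
  intro h
  have := ev_a0 1 (by norm_num)
  rw [h, act_one] at this
  exact chk_ne this.symm

theorem a0_sq : a0 * a0 = 1 := by
  have h := ev_a0.mul ev_a0
  refine h.ext Ev.one ?_ ?_ ?_ ?_ <;> decide +kernel

theorem comm_cases {x y : G} (hx : x ∈ Qn) (hy : y ∈ Qn) : x * y = y * x ∨ x * y = a0 * (y * x) := by
  obtain ⟨t, ht, rfl⟩ := exists_of_mem_Qn hx
  obtain ⟨t', ht', rfl⟩ := exists_of_mem_Qn hy
  have h := List.all_eq_true.mp (List.all_eq_true.mp chk_comm t ht) t' ht'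
  rw [Bool.or_eq_true] at h
  have e1 := (ev_QL ht).mul (ev_QL ht')
  have e2 := (ev_QL ht').mul (ev_QL ht)
  rcases h with h | h
  · exact Or.inl (e1.ext' e2 h)
  · exact Or.inr (e1.ext' (ev_a0.mul e2) h)

theorem sq_cases {x : G} (hx : x ∈ Qn) : x * x = 1 ∨ x * x = a0 := by
  obtain ⟨t, ht, rfl⟩ := exists_of_mem_Qn hx
  have h := List.all_eq_true.mp chk_sq t ht
  rw [Bool.or_eq_true] at h
  have e1 := (ev_QL ht).mul (ev_QL ht)
  rcases h with h | h
  · exact Or.inl (e1.ext' Ev.one h)
  · exact Or.inr (e1.ext' ev_a0 h)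

theorem center_cases {x : G} (hx : x ∈ Qn) (hc : ∀ y ∈ Qn, x * y = y * x) : x = 1 ∨ x = a0 := by
  obtain ⟨t, ht, rfl⟩ := exists_of_mem_Qn hx
  have h := List.all_eq_true.mp chk_center t ht
  rw [Bool.or_eq_true, Bool.or_eq_true] at h
  rcases h with h | h | h
  · exfalso
    rw [Bool.not_eq_true', ← Bool.not_eq_true] at h
    apply h
    rw [List.all_eq_true]
    intro t' ht'
    exact onBase_of_eq ((ev_QL ht).mul (ev_QL ht')) ((ev_QL ht').mul (ev_QL ht))
      (hc _ (tau_mem_Qn ht'))
  · exact Or.inl ((ev_QL ht).ext' Ev.one h)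
  · exact Or.inr ((ev_QL ht).ext' ev_a0 h)

/-- the kernel, as a group -/
noncomputable abbrev Qk : Subgroup ↥Cn := theta.ker

/-- the inclusion of the kernel in the whole group -/
noncomputable def incl : ↥Qk →* G := Cn.subtype.comp Qk.subtype

theorem incl_injective : Function.Injective incl := by
  intro x y h
  exact Subtype.ext (Subtype.ext h)

theorem incl_mem (x : ↥Qk) : incl x ∈ Qn := mem_Qn.mpr ⟨x.val.2, x.2⟩

/-- the central involution, as an element of the kernel -/
noncomputable def zq : ↥Qk := ⟨⟨a0, a0_mem_Cn⟩, (mem_Qn.mp a0_mem_Qn).2⟩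

theorem incl_zq : incl zq = a0 := rfl

theorem zq_ne_one : zq ≠ 1 := by
  intro h
  apply a0_ne_one
  rw [← incl_zq, h, map_one]

theorem zq_sq : zq ^ 2 = 1 := by
  apply incl_injective
  rw [map_pow, incl_zq, map_one, pow_two, a0_sq]

theorem zq_mem_center : zq ∈ Subgroup.center ↥Qk := by
  rw [Subgroup.mem_center_iff]
  intro y
  apply incl_injective
  rw [map_mul, map_mul, incl_zq]
  have : incl y ∈ Cn := y.val.2
  exact Subgroup.mem_centralizer_singleton_iff.mp this

theorem center_Qk : Subgroup.center ↥Qk = Subgroup.zpowers zq := by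
  apply le_antisymm
  · intro x hx
    rw [Subgroup.mem_center_iff] at hx
    have h := center_cases (incl_mem x) (fun y hy => by
      obtain ⟨hy1, hy2⟩ := mem_Qn.mp hy
      have := hx ⟨⟨y, hy1⟩, hy2⟩
      have h2 := congrArg incl this
      rw [map_mul, map_mul] at h2
      exact h2.symm)
    rcases h with h | h
    · have : x = 1 := incl_injective (by rw [h, map_one])
      rw [this]
      exact Subgroup.one_mem _
    · have : x = zq := incl_injective (by rw [h, incl_zq])
      rw [this]
      exact Subgroup.mem_zpowers _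
  · rw [Subgroup.zpowers_le]
    exact zq_mem_center

theorem orderOf_zq : orderOf zq = 2 := orderOf_eq_prime zq_sq zq_ne_one

theorem card_center_Qk : Nat.card (Subgroup.center ↥Qk) = 2 := by
  rw [center_Qk, Nat.card_zpowers, orderOf_zq]

theorem card_Qk : Nat.card ↥Qk = 32 := card_ker

theorem comm_cases' (x y : ↥Qk) : x * y = y * x ∨ x * y = zq * (y * x) := by
  rcases comm_cases (incl_mem x) (incl_mem y) with h | h
  · left
    apply incl_injective
    rw [map_mul, map_mul, h]
  · right
    apply incl_injective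
    rw [map_mul, map_mul, map_mul, incl_zq, h]

theorem sq_cases' (x : ↥Qk) : x ^ 2 = 1 ∨ x ^ 2 = zq := by
  rcases sq_cases (incl_mem x) with h | h
  · left
    apply incl_injective
    rw [map_pow, pow_two, h, map_one]
  · right
    apply incl_injective
    rw [map_pow, pow_two, h, incl_zq]

theorem extraspecial_Qk : Cfsg.IsExtraspecial 2 ↥Qk := by
  haveI : Finite ↥Qk := Nat.finite_of_card_ne_zero (by rw [card_Qk]; norm_num)
  refine Cfsg.Agent.Lib.Helper9.LargeExtra.isExtraspecial_of_type ?_ card_center_Qk ?_ ?_ ?_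
  · exact IsPGroup.of_card (n := 5) (by rw [card_Qk]; norm_num)
  · intro x y
    rcases comm_cases' x y with h | h
    · rw [commutatorElement_eq_one_iff_mul_comm.mpr h]
      exact Subgroup.one_mem _
    · have : ⁅x, y⁆ = zq := by
        rw [commutatorElement_def, h]
        group
      rw [this]
      exact zq_mem_center
  · intro x
    rcases sq_cases' x with h | h
    · rw [h]
      exact Subgroup.one_mem _
    · rw [h]
      exact zq_mem_center
  · by_contra hcon
    push Not at hcon
    have htop : Subgroup.center ↥Qk = ⊤ := by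
      rw [eq_top_iff]
      intro x _
      rw [Subgroup.mem_center_iff]
      intro y
      exact (commutatorElement_eq_one_iff_mul_comm.mp (hcon y x))
    have := card_center_Qk
    rw [htop, Subgroup.card_top, card_Qk] at this
    norm_num at this

end Cfsg.Agent.Lib.Helper4.J2C
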