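import Cfsg.Agent.Lib.Helper4.J2C.C4
import Cfsg.Agent.Lib.Helper9.ExtraTransport
import Cfsg.Agent.Lib.Helper4.J2.H11
import Cfsg.Agent.Lib.Helper4.J2.H10

set_option autoImplicit false

/-! # The centralizer of a reflection in the Hall-Janko group -/

namespace Cfsg.Agent.Lib.Helper4.J2C

open Cfsg.Agent.Lib.Helper4.J2S
open Cfsg.Agent.Lib.Helper6.TCP.J2

/-- the structure of the centralizer of an element: an extraspecial group of order 32 extended by
the alternating group of degree five -/
def CentProp (X : Type*) [Group X] (x : X) : Prop :=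
  ∃ (Q : Subgroup ↥(Subgroup.centralizer {x})) (_ : Q.Normal), Nat.card Q = 32 ∧
    Cfsg.IsExtraspecial 2 Q ∧
    Nonempty (↥(Subgroup.centralizer {x}) ⧸ Q ≃* alternatingGroup (Fin 5))

theorem centProp_a0 : CentProp G a0 :=
  ⟨Qk, MonoidHom.normal_ker theta, card_Qk, extraspecial_Qk, ⟨quotEquiv⟩⟩

theorem map_centralizer_equiv {X Y : Type*} [Group X] [Group Y] (e : X ≃* Y) (x : X) :
    (Subgroup.centralizer {x}).map e.toMonoidHom = Subgroup.centralizer {e x} := by
  ext y
  rw [Subgroup.mem_map, Subgroup.mem_centralizer_singleton_iff]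
  constructor
  · rintro ⟨g, hg, rfl⟩
    rw [Subgroup.mem_centralizer_singleton_iff] at hg
    show e g * e x = e x * e g
    rw [← map_mul, ← map_mul, hg]
  · intro h
    refine ⟨e.symm y, ?_, e.apply_symm_apply y⟩
    rw [Subgroup.mem_centralizer_singleton_iff]
    apply e.injective
    rw [map_mul, map_mul, e.apply_symm_apply]
    exact h

/-- the isomorphism of the centralizers given by an isomorphism of groups -/
noncomputable def centEquiv {X Y : Type*} [Group X] [Group Y] (e : X ≃* Y) (x : X) :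
    ↥(Subgroup.centralizer {x}) ≃* ↥(Subgroup.centralizer {e x}) :=
  (e.subgroupMap (Subgroup.centralizer {x})).trans (MulEquiv.subgroupCongr (map_centralizer_equiv e x))

theorem centProp_of_equiv {X Y : Type*} [Group X] [Group Y] (e : X ≃* Y) (x : X)
    (h : CentProp Y (e x)) : CentProp X x := by
  obtain ⟨Q', hn, hc, hex, ⟨f⟩⟩ := h
  set ε := centEquiv e x with hε
  have hmap : (Q'.comap ε.toMonoidHom).map ε.toMonoidHom = Q' :=
    Subgroup.map_comap_eq_self_of_surjective ε.surjective Q'
  -- the equivalence of the subgroups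
  have eq : ↥(Q'.comap ε.toMonoidHom) ≃* ↥Q' :=
    (ε.subgroupMap (Q'.comap ε.toMonoidHom)).trans (MulEquiv.subgroupCongr hmap)
  refine ⟨Q'.comap ε.toMonoidHom, hn.comap _, ?_, ?_, ⟨?_⟩⟩
  · rw [Nat.card_congr eq.toEquiv, hc]
  · exact Cfsg.Agent.Lib.Helper9.isExtraspecial_of_mulEquiv eq.symm hex
  · haveI := hn
    haveI : (Q'.comap ε.toMonoidHom).Normal := hn.comap _
    exact (QuotientGroup.congr (Q'.comap ε.toMonoidHom) Q' ε hmap).trans f

theorem centProp_conj {X : Type*} [Group X] (g x : X) (h : CentProp X x) :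
    CentProp X (g * x * g⁻¹) := by
  apply centProp_of_equiv (MulAut.conj g⁻¹)
  have : (MulAut.conj g⁻¹) (g * x * g⁻¹) = x := by
    rw [MulAut.conj_apply]
    group
  rw [this]
  exact h

end Cfsg.Agent.Lib.Helper4.J2C
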