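import Mathlib

set_option autoImplicit false

/-! # The four group in the permutations of five points -/

namespace Cfsg.Agent.Lib.Helper4.J2C

open Equiv

/-- the list of the values of a permutation of five points -/
def labs (σ : Perm (Fin 5)) : List ℕ := (List.finRange 5).map (fun i => (σ i).val)

/-- the lists of the values of the elements of the four group on the first four points -/
def VLab : List (List ℕ) := [[0, 1, 2, 3, 4], [1, 0, 3, 2, 4], [2, 3, 0, 1, 4], [3, 2, 1, 0, 4]]

/-- an element of the four group -/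
def vv : Perm (Fin 5) := swap 0 1 * swap 2 3

/-- a cycle of length three normalizing the four group -/
def cc : Perm (Fin 5) := swap 1 2 * swap 0 1

theorem labs_injective : ∀ σ τ : Perm (Fin 5), labs σ = labs τ → σ = τ := by decide +kernel

theorem V_one : labs 1 ∈ VLab := by decide +kernel

theorem V_mul : ∀ σ τ : Perm (Fin 5), labs σ ∈ VLab → labs τ ∈ VLab → labs (σ * τ) ∈ VLab := by
  decide +kernel

theorem V_inv : ∀ σ : Perm (Fin 5), labs σ ∈ VLab → labs σ⁻¹ ∈ VLab := by decide +kernel

theorem V_sign : ∀ σ : Perm (Fin 5), labs σ ∈ VLab → Perm.sign σ = 1 := by decide +kernel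

theorem labs_vv : labs vv ∈ VLab := by decide +kernel

theorem labs_cc_inv : labs cc⁻¹ = [1, 2, 0, 3, 4] := by decide +kernel

theorem V_conj_cc : ∀ σ : Perm (Fin 5), labs σ ∈ VLab → labs (cc * σ * cc⁻¹) ∈ VLab := by
  decide +kernel

theorem V_conj_cc' : ∀ σ : Perm (Fin 5), labs σ ∈ VLab → labs (cc⁻¹ * σ * cc) ∈ VLab := by
  decide +kernel

theorem V_norm : ∀ σ : Perm (Fin 5), Perm.sign σ = 1 → labs (σ * vv * σ⁻¹) ∈ VLab →
    labs σ ∈ VLab ∨ labs (σ * cc) ∈ VLab ∨ labs (σ * cc * cc) ∈ VLab := by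
  decide +kernel

/-- the four group -/
def V4 : Subgroup (Perm (Fin 5)) where
  carrier := {σ | labs σ ∈ VLab}
  mul_mem' := fun {a b} ha hb => V_mul a b ha hb
  one_mem' := V_one
  inv_mem' := fun {a} ha => V_inv a ha

theorem mem_V4 {σ : Perm (Fin 5)} : σ ∈ V4 ↔ labs σ ∈ VLab := Iff.rfl

end Cfsg.Agent.Lib.Helper4.J2C
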