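import Cfsg.Agent.Lib.Helper4.J2C.F1
import Cfsg.Agent.Lib.Helper4.J2C.F2

set_option autoImplicit false

/-! # Checks of the data for the fusion -/

namespace Cfsg.Agent.Lib.Helper4.J2C

open Cfsg.Agent.Lib.Helper4.J2S

/-- the labels of the images of the five points with given labels -/
def labF (f : ℕ → ℕ) : List ℕ := [0, 1, 2, 3, 4].map fun i => lab (f (rp i))

/-- whether a triple acts on the blocks as an element of the four group -/
def isV (t : ℕ × ℕ × ℕ) : Bool := VLab.contains (labF (g3 t))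

/-- the elements of the Sylow subgroup -/
def SL : List (ℕ × ℕ × ℕ) := CL.filter isV

theorem length_SL : SL.length = 128 := by decide +kernel

/-- membership of a triple in the list of the elements of the centralizer -/
def inCL (t : ℕ × ℕ × ℕ) : Bool :=
  KL.contains t.1 && UL.contains t.2.1 && commB t.1 t.2.1 && PCL.contains t.2.2

theorem chk_inCL : [TD1, TD2, TE1, TE2, TA, TB].all inCL = true := by decide +kernel

theorem chk_isV : [TD1, TD2, TE1, TE2].all isV = true := by decide +kernel

/-- the conjugating elements are products of known elements -/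
def inConj (c : (ℕ × ℕ × ℕ) × (ℕ × ℕ × ℕ)) : Bool :=
  KL.contains c.1.1 && UL.contains c.1.2.1 && c.1.2.2 == IDPK && TauL.contains c.2

theorem chk_inConj : [CG1, CG2, CH1, CH2].all inConj = true := by decide +kernel

/-- the action of a pair of triples -/
def c6 (c : (ℕ × ℕ × ℕ) × (ℕ × ℕ × ℕ)) (q : ℕ) : ℕ := g3 c.2 (g3 c.1 q)

theorem chk_d1 : onBase (fun b => ap HEX0 (c6 CG1 b) == c6 CG1 (g3 TD1 b)) = true := by
  decide +kernel

theorem chk_d2 : onBase (fun b => ap HEX0 (c6 CG2 b) == c6 CG2 (g3 TD2 b)) = true := by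
  decide +kernel

theorem chk_e1 : onBase (fun b => g3 TD2 (g3 TD1 (c6 CH1 b)) == c6 CH1 (g3 TE1 b)) = true := by
  decide +kernel

theorem chk_e2 : onBase (fun b => g3 TD2 (g3 TD1 (c6 CH2 b)) == c6 CH2 (g3 TE2 b)) = true := by
  decide +kernel

theorem chk_a : onBase (fun b => g3 TA (g3 TA b) == b) = true := by decide +kernel

theorem chk_b : onBase (fun b => g3 TB (g3 TB b) == b) = true := by decide +kernel

theorem chk_lab_a : labF (g3 TA) = [1, 0, 2, 4, 3] := by decide +kernel

theorem chk_lab_b : labF (g3 TB) = [2, 1, 0, 4, 3] := by decide +kernel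

theorem chk_lab_n : labF (fun q => g3 TB (g3 TA q)) = [1, 2, 0, 3, 4] := by decide +kernel

theorem chk_cent : CL.all (fun t => isKer t ||
    QL.any (fun t' => !onBase (fun b => g3 t' (g3 t b) == g3 t (g3 t' b)))) = true := by
  decide +kernel

/-- the image of a tuple of four points -/
def mapT (f : ℕ → ℕ) (p : ℕ × ℕ × ℕ × ℕ) : ℕ × ℕ × ℕ × ℕ := (f p.1, f p.2.1, f p.2.2.1, f p.2.2.2)

/-- the image of the base -/
def tupOf (f : ℕ → ℕ) : ℕ × ℕ × ℕ × ℕ := (f 0, f 3, f 1, f 2)

/-- each tuple of the list is the image of an earlier one -/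
def orbChk (fs : List (ℕ → ℕ)) : List (ℕ × ℕ × ℕ × ℕ) → List (ℕ × ℕ × ℕ × ℕ) → Bool
  | _, [] => true
  | prev, e :: rest =>
    (prev.any fun p => fs.any fun f => mapT f p == e) && orbChk fs (e :: prev) rest

theorem chk_orb : orbChk [g3 TD1, g3 TE1, g3 TE2] [(0, 3, 1, 2)] ORBL = true := by decide +kernel

theorem chk_SL_orb : SL.all (fun t => ((0, 3, 1, 2) :: ORBL).contains (tupOf (g3 t))) = true := by
  decide +kernel

end Cfsg.Agent.Lib.Helper4.J2C
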