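import Cfsg.Agent.Lib.Helper4.J2C.F3

set_option autoImplicit false

/-! # The strongly closed subgroups of a Sylow subgroup of the presented group `J2` -/

namespace Cfsg.Agent.Lib.Helper4.J2C

open Cfsg.Agent.Lib.Helper4.J2S
open Cfsg.Agent.Lib.Helper6.TCP.J2
open Classical

/-- the conjugating elements -/
noncomputable def cj (c : (ℕ × ℕ × ℕ) × (ℕ × ℕ × ℕ)) : G := tau c.1 * tau c.2

theorem ev_cj {c : (ℕ × ℕ × ℕ) × (ℕ × ℕ × ℕ)} (h : inConj c = true) : Ev (c6 c) (cj c) := by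
  unfold inConj at h
  simp only [Bool.and_eq_true, List.contains_iff_mem, beq_iff_eq] at h
  obtain ⟨⟨⟨h1, h2⟩, h3⟩, h4⟩ := h
  obtain ⟨m1, m2, m3⟩ := tau_mem' h4
  have e1 : Ev (g3 c.1) (tau c.1) := ev_tau (repr_K h1) (repr_U h2) (by rw [h3]; exact ⟨1, rep_one⟩)
  have e2 : Ev (g3 c.2) (tau c.2) := ev_tau (repr_T m1) (repr_K m2) (repr_U m3)
  exact e1.mul e2

theorem CG1_ok : inConj CG1 = true := List.all_eq_true.mp chk_inConj CG1 (by simp)
theorem CG2_ok : inConj CG2 = true := List.all_eq_true.mp chk_inConj CG2 (by simp)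
theorem CH1_ok : inConj CH1 = true := List.all_eq_true.mp chk_inConj CH1 (by simp)
theorem CH2_ok : inConj CH2 = true := List.all_eq_true.mp chk_inConj CH2 (by simp)

theorem conj_d1 : cj CG1 * a0 * (cj CG1)⁻¹ = tau TD1 := by
  have h : cj CG1 * a0 = tau TD1 * cj CG1 :=
    ((ev_cj CG1_ok).mul ev_a0).ext' ((ev_CL TD1_mem).mul (ev_cj CG1_ok)) chk_d1
  rw [h, mul_inv_cancel_right]

theorem conj_d2 : cj CG2 * a0 * (cj CG2)⁻¹ = tau TD2 := by
  have h : cj CG2 * a0 = tau TD2 * cj CG2 :=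
    ((ev_cj CG2_ok).mul ev_a0).ext' ((ev_CL TD2_mem).mul (ev_cj CG2_ok)) chk_d2
  rw [h, mul_inv_cancel_right]

theorem conj_e1 : cj CH1 * (tau TD1 * tau TD2) * (cj CH1)⁻¹ = tau TE1 := by
  have h : cj CH1 * (tau TD1 * tau TD2) = tau TE1 * cj CH1 :=
    ((ev_cj CH1_ok).mul ((ev_CL TD1_mem).mul (ev_CL TD2_mem))).ext'
      ((ev_CL TE1_mem).mul (ev_cj CH1_ok)) chk_e1
  rw [h, mul_inv_cancel_right]

theorem conj_e2 : cj CH2 * (tau TD1 * tau TD2) * (cj CH2)⁻¹ = tau TE2 := by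
  have h : cj CH2 * (tau TD1 * tau TD2) = tau TE2 * cj CH2 :=
    ((ev_cj CH2_ok).mul ((ev_CL TD1_mem).mul (ev_CL TD2_mem))).ext'
      ((ev_CL TE2_mem).mul (ev_cj CH2_ok)) chk_e2
  rw [h, mul_inv_cancel_right]

/-- an element with a given image of the base -/
def HasT (g : G) (p : ℕ × ℕ × ℕ × ℕ) : Prop :=
  (act g 0).val = p.1 ∧ (act g 3).val = p.2.1 ∧ (act g 1).val = p.2.2.1 ∧ (act g 2).val = p.2.2.2

theorem HasT.mul {g x : G} {p : ℕ × ℕ × ℕ × ℕ} {f : ℕ → ℕ} (hg : HasT g p) (hx : Ev f x) :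
    HasT (g * x) (mapT f p) := by
  obtain ⟨h0, h3, h1, h2⟩ := hg
  refine ⟨?_, ?_, ?_, ?_⟩
  · rw [act_mul, hx.val, h0]; rfl
  · rw [act_mul, hx.val, h3]; rfl
  · rw [act_mul, hx.val, h1]; rfl
  · rw [act_mul, hx.val, h2]; rfl

theorem hasT_of_ev {f : ℕ → ℕ} {g : G} (h : Ev f g) : HasT g (tupOf f) :=
  ⟨h 0 (by norm_num), h 3 (by norm_num), h 1 (by norm_num), h 2 (by norm_num)⟩

theorem eq_of_hasT {g h : G} {p : ℕ × ℕ × ℕ × ℕ} (hg : HasT g p) (hh : HasT h p) : g = h :=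
  eq_of_base (Fin.ext (hg.1.trans hh.1.symm)) (Fin.ext (hg.2.1.trans hh.2.1.symm))
    (Fin.ext (hg.2.2.1.trans hh.2.2.1.symm)) (Fin.ext (hg.2.2.2.trans hh.2.2.2.symm))

theorem orb_sound (T : Subgroup G) (fs : List (ℕ → ℕ)) (hfs : ∀ f ∈ fs, ∃ x ∈ T, Ev f x) :
    ∀ (L prev : List (ℕ × ℕ × ℕ × ℕ)), orbChk fs prev L = true →
      (∀ p ∈ prev, ∃ g ∈ T, HasT g p) → ∀ e ∈ L, ∃ g ∈ T, HasT g e := by
  intro L
  induction L with
  | nil => intro _ _ _ e he; simp at he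
  | cons e0 rest ih =>
    intro prev h hprev e he
    unfold orbChk at h
    rw [Bool.and_eq_true] at h
    obtain ⟨h1, h2⟩ := h
    have h0 : ∃ g ∈ T, HasT g e0 := by
      rw [List.any_eq_true] at h1
      obtain ⟨p, hp, h1⟩ := h1
      rw [List.any_eq_true] at h1
      obtain ⟨f, hf, h1⟩ := h1
      rw [beq_iff_eq] at h1
      obtain ⟨g, hgT, hg⟩ := hprev p hp
      obtain ⟨x, hxT, hx⟩ := hfs f hf
      refine ⟨g * x, Subgroup.mul_mem _ hgT hxT, ?_⟩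
      rw [← h1]
      exact hg.mul hx
    rcases List.mem_cons.mp he with rfl | he'
    · exact h0
    · refine ih (e0 :: prev) h2 ?_ e he'
      intro p hp
      rcases List.mem_cons.mp hp with rfl | hp'
      · exact h0
      · exact hprev p hp'

/-- a nontrivial strongly closed subgroup of the Sylow subgroup is the whole of it -/
theorem Sn_le_of_closed (T : Subgroup G) (hT : T ≤ Sn) (hne : T ≠ ⊥)
    (hcl : ∀ t ∈ T, ∀ g : G, g * t * g⁻¹ ∈ Sn → g * t * g⁻¹ ∈ T) : Sn ≤ T := by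
  haveI : Fact (Nat.Prime 2) := ⟨Nat.prime_two⟩
  have hP : IsPGroup 2 Sn := IsPGroup.of_card (n := 7) (by rw [card_Sn]; norm_num)
  obtain ⟨z, hzT, hz1, hzc⟩ := Cfsg.Agent.H9L3.exists_central_of_normal' hP hT hne
    (fun g hg t ht => hcl t ht g (Subgroup.mul_mem _ (Subgroup.mul_mem _ hg (hT ht))
      (Subgroup.inv_mem _ hg)))
  have hz : z = a0 := by
    rcases center_Sn (fun s hs => (hzc s hs).symm) with h | h
    · exact absurd h hz1
    · exact h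
  have ha0 : a0 ∈ T := hz ▸ hzT
  have hd1 : tau TD1 ∈ T := by
    have := hcl a0 ha0 (cj CG1)
    rw [conj_d1] at this
    exact this (tau_mem_Sn TD1_mem_SL)
  have hd2 : tau TD2 ∈ T := by
    have := hcl a0 ha0 (cj CG2)
    rw [conj_d2] at this
    exact this (tau_mem_Sn TD2_mem_SL)
  have hw : tau TD1 * tau TD2 ∈ T := Subgroup.mul_mem _ hd1 hd2
  have he1 : tau TE1 ∈ T := by
    have := hcl _ hw (cj CH1)
    rw [conj_e1] at this
    exact this (tau_mem_Sn TE1_mem_SL)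
  have he2 : tau TE2 ∈ T := by
    have := hcl _ hw (cj CH2)
    rw [conj_e2] at this
    exact this (tau_mem_Sn TE2_mem_SL)
  have hfs : ∀ f ∈ [g3 TD1, g3 TE1, g3 TE2], ∃ x ∈ T, Ev f x := by
    intro f hf
    simp only [List.mem_cons, List.not_mem_nil, or_false] at hf
    rcases hf with rfl | rfl | rfl
    · exact ⟨_, hd1, ev_CL TD1_mem⟩
    · exact ⟨_, he1, ev_CL TE1_mem⟩
    · exact ⟨_, he2, ev_CL TE2_mem⟩
  have hstart : ∃ g ∈ T, HasT g (0, 3, 1, 2) := ⟨1, Subgroup.one_mem _, hasT_of_ev Ev.one⟩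
  have hall := orb_sound T _ hfs ORBL [(0, 3, 1, 2)] chk_orb (by
    intro p hp
    rw [List.mem_singleton] at hp
    rw [hp]
    exact hstart)
  intro s hs
  obtain ⟨t, ht, rfl⟩ := exists_of_mem_Sn hs
  have hmem := List.all_eq_true.mp chk_SL_orb t ht
  rw [List.contains_iff_mem] at hmem
  have hex : ∃ g ∈ T, HasT g (tupOf (g3 t)) := by
    rcases List.mem_cons.mp hmem with h | h
    · rw [h]; exact hstart
    · exact hall _ h
  obtain ⟨g, hgT, hg⟩ := hex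
  have : g = tau t := eq_of_hasT hg (hasT_of_ev (ev_CL (mem_SL.mp ht).1))
  rw [← this]
  exact hgT

end Cfsg.Agent.Lib.Helper4.J2C
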