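import Cfsg.Agent.Lib.Helper4.J2C.F4
import Cfsg.Agent.Lib.Helper9.AltFus0

set_option autoImplicit false

/-! # The fusion system of the presented group `J2` at the prime two is simple -/

namespace Cfsg.Agent.Lib.Helper4.J2C

open Cfsg.Agent.Lib.Helper4.J2S
open Cfsg.Agent.Lib.Helper6.TCP.J2
open Classical

theorem two_part_G : (604800 : ℕ).factorization 2 = 7 := by
  have h1 : 7 ≤ (604800 : ℕ).factorization 2 :=
    (Nat.prime_two.pow_dvd_iff_le_factorization (by norm_num)).mp (by norm_num)
  have h2 : ¬ 8 ≤ (604800 : ℕ).factorization 2 := by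
    intro h
    have := (Nat.prime_two.pow_dvd_iff_le_factorization (by norm_num)).mpr h
    norm_num at this
  omega

theorem exists_orderOf_of_mem_Sn {x : G} (hx : x ∈ Sn) : ∃ j : ℕ, orderOf x = 2 ^ j := by
  have hP : IsPGroup 2 Sn := IsPGroup.of_card (n := 7) (by rw [card_Sn]; norm_num)
  obtain ⟨k, hk⟩ := IsPGroup.iff_orderOf.mp hP ⟨x, hx⟩
  refine ⟨k, ?_⟩
  rw [← hk]
  exact (Subgroup.orderOf_mk x hx).symm

/-- the fusion system at the prime two of a group isomorphic to the presented group is simple -/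
theorem fusion_simple {H : Type*} [Group H] [Finite H] (e : H ≃* G) (S : Sylow 2 H) :
    (Cfsg.groupFusionSystem (S : Subgroup H)).IsSimple 2 := by
  haveI : Fact (Nat.Prime 2) := ⟨Nat.prime_two⟩
  refine Cfsg.Agent.H9AF.simple_of_data_hom (e : H →* G) e.injective ⊤ ?_ 2 Sn le_top ?_ ?_ ?_
    ((Sn : Set G) ∪ {nn}) ?_ ?_ S
  · exact MonoidHom.range_eq_top.mpr e.surjective
  · rw [card_Sn, Subgroup.card_top, card_G, two_part_G]
    norm_num
  · intro h
    have := card_Sn
    rw [h, Subgroup.card_bot] at this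
    norm_num at this
  · intro T hT hne hcl
    exact Sn_le_of_closed T hT hne (fun t ht g hg => hcl t ht g (Subgroup.mem_top _) hg)
  · intro g _ hg
    exact mem_closure_of_normalizer hg
  · intro γ hγ
    refine ⟨Subgroup.mem_top _, ?_⟩
    rcases hγ with hγ | hγ
    · refine ⟨Subgroup.le_normalizer hγ, Sn, le_refl _, fun x _ hx => mem_Sn_of_comm hx, ?_⟩
      apply Subgroup.subset_closure
      exact ⟨Subgroup.mem_top _, Subgroup.le_normalizer hγ, exists_orderOf_of_mem_Sn hγ⟩
    · rw [Set.mem_singleton_iff] at hγ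
      rw [hγ]
      refine ⟨nn_mem_normalizer, Qn, Qn_le_Sn, fun x _ hx => mem_Qn_of_comm hx, ?_⟩
      unfold nn
      apply Subgroup.mul_mem
      · apply Subgroup.subset_closure
        exact ⟨Subgroup.mem_top _, mem_normalizer_Qn (tau_mem_cent TA_mem),
          exists_orderOf_of_sq tau_TA_sq⟩
      · apply Subgroup.subset_closure
        exact ⟨Subgroup.mem_top _, mem_normalizer_Qn (tau_mem_cent TB_mem),
          exists_orderOf_of_sq tau_TB_sq⟩

end Cfsg.Agent.Lib.Helper4.J2C
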